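import Groth.Agent.RelGCI94.FiniteSynt
import Groth.Agent.RelGCI94.SmoothSyn
import Mathlib.RingTheory.AdjoinRoot
import Mathlib.RingTheory.Flat.FaithfullyFlat.Basic
import Mathlib.RingTheory.Polynomial.Basic
import Mathlib.Algebra.MvPolynomial.Equiv

/-! Towers of monic root adjunctions are syntomic. -/

set_option autoImplicit false
universe u

open Polynomial

namespace Groth.Agent.Synt18

variable {A : Type u} [CommRing A]

/-- A square presentation. -/
def HasSquarePres (A B : Type u) [CommRing A] [CommRing B] [Algebra A B] : Prop :=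
  ∃ (n : ℕ) (φ : MvPolynomial (Fin n) A →ₐ[A] B) (F : Fin n → MvPolynomial (Fin n) A),
    Function.Surjective φ ∧ RingHom.ker φ.toRingHom = Ideal.span (Set.range F)

theorem hasSquarePres_self (A : Type u) [CommRing A] : HasSquarePres A A := by
  refine ⟨0, MvPolynomial.aeval Fin.elim0, Fin.elim0, fun a => ⟨MvPolynomial.C a, by simp⟩, ?_⟩
  rw [show Set.range (Fin.elim0 : Fin 0 → MvPolynomial (Fin 0) A) = ∅ from Set.range_eq_empty _,
    Ideal.span_empty]
  exact (RingHom.injective_iff_ker_eq_bot _).1 (MvPolynomial.aeval_injective_iff_of_isEmpty.2 Function.injective_id)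

theorem isSyntomic_of_squarePres {B : Type u} [CommRing B] [Algebra A B] [Module.Finite A B]
    (h : HasSquarePres A B) : Synt.IsSyntomic A B := by
  obtain ⟨n, φ, F, hφ, hker⟩ := h
  let e : Synt.RelGCIRing A n n F ≃ₐ[A] B :=
    (Ideal.quotientEquivAlgOfEq A hker.symm).trans (Ideal.quotientKerAlgEquivOfSurjective hφ)
  have : Module.Finite A (Synt.RelGCIRing A n n F) := Module.Finite.equiv e.symm.toLinearEquiv
  exact RelGCI94.isSyntomic_congr e
    (RelGCI94.isSyntomic_relGCIRing A n n F (RelGCI94.isRelGCI_of_finite F))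

theorem hasSquarePres_adjoinRoot {B : Type u} [CommRing B] [Algebra A B] (h : HasSquarePres A B)
    (g : B[X]) : HasSquarePres A (AdjoinRoot g) := by
  obtain ⟨n, φ, F, hφ, hker⟩ := h
  let ψ : Polynomial (MvPolynomial (Fin n) A) →ₐ[A] AdjoinRoot g :=
    ((Ideal.Quotient.mkₐ A (Ideal.span {g})).comp (Polynomial.mapAlgHom φ))
  have hmap : Function.Surjective (Polynomial.mapRingHom φ.toRingHom) :=
    Polynomial.map_surjective φ.toRingHom hφ
  obtain ⟨G, hG⟩ := hmap g
  let E := MvPolynomial.finSuccEquiv A n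
  refine ⟨n + 1, ψ.comp E.toAlgHom, fun i => E.symm (Fin.cases G (fun j => Polynomial.C (F j)) i),
    ?_, ?_⟩
  · intro y
    obtain ⟨b, rfl⟩ := Ideal.Quotient.mk_surjective y
    obtain ⟨c, rfl⟩ := hmap b
    exact ⟨E.symm c, congrArg ψ (E.apply_symm_apply c)⟩
  · have hψ : RingHom.ker ψ.toRingHom =
        Ideal.span (Set.range (Fin.cases G (fun j => Polynomial.C (F j)) : Fin (n + 1) → _)) := by
      change RingHom.ker ((Ideal.Quotient.mk (Ideal.span {g})).comp (Polynomial.mapRingHom φ.toRingHom)) = _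
      rw [← RingHom.comap_ker, Ideal.mk_ker, ← hG, ← Set.image_singleton, ← Ideal.map_span,
        Ideal.comap_map_of_surjective _ hmap, ← RingHom.ker_eq_comap_bot, Polynomial.ker_mapRingHom,
        hker, Ideal.map_span, ← Ideal.span_union, ← Set.range_comp]
      congr 1
      ext x
      constructor
      · rintro (hx | ⟨j, rfl⟩)
        · exact ⟨0, by simp [Set.mem_singleton_iff.1 hx]⟩
        · exact ⟨j.succ, by simp⟩
      · rintro ⟨i, rfl⟩
        refine Fin.cases ?_ ?_ i
        · exact Or.inl (by simp)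
        · exact fun j => Or.inr ⟨j, by simp⟩
    rw [show (ψ.comp E.toAlgHom).toRingHom = ψ.toRingHom.comp E.toRingEquiv.toRingHom from rfl,
      ← RingHom.comap_ker, hψ]
    rw [show Ideal.comap E.toRingEquiv.toRingHom = Ideal.comap E.toRingEquiv from rfl,
      ← Ideal.map_symm, Ideal.map_span, ← Set.range_comp]
    rfl

theorem faithfullyFlat_adjoinRoot {g : A[X]} (hg : g.Monic) (hd : 0 < g.natDegree) :
    Module.FaithfullyFlat A (AdjoinRoot g) := by
  have : Nonempty (Fin g.natDegree) := ⟨⟨0, hd⟩⟩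
  exact Module.FaithfullyFlat.of_linearEquiv (M := Fin g.natDegree →₀ A) (R := A)
    (AdjoinRoot.powerBasis' hg).basis.repr

/-- Splitting a monic polynomial. -/
theorem exists_splitting : ∀ (d : ℕ) (B : Type u) [CommRing B] [Algebra A B] (P : B[X]), P.Monic →
    P.natDegree = d → HasSquarePres A B → Module.Finite A B → Module.Free A B →
      Module.FaithfullyFlat A B →
      ∃ (B' : Type u) (_ : CommRing B') (_ : Algebra A B') (f : B →ₐ[A] B'), HasSquarePres A B' ∧
        Module.Finite A B' ∧ Module.Free A B' ∧ Module.FaithfullyFlat A B' ∧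
          ∃ s : Multiset B', P.map f.toRingHom = (s.map fun b => X - C b).prod
  | 0, B, _, _, P, hP, hd, h1, h2, h3, h4 => by
    refine ⟨B, inferInstance, inferInstance, AlgHom.id A B, h1, h2, h3, h4, 0, ?_⟩
    rw [hP.natDegree_eq_zero.1 hd]
    simp
  | d + 1, B, _, _, P, hP, hd, h1, h2, h3, h4 => by
    let B₁ := AdjoinRoot P
    have : Module.Finite B B₁ := hP.finite_adjoinRoot
    have : Module.Free B B₁ := hP.free_adjoinRoot
    have := faithfullyFlat_adjoinRoot hP (by omega)
    let P₁ := P.map (AdjoinRoot.of P)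
    let Q := P₁ /ₘ (X - C (AdjoinRoot.root P))
    have hQ : (X - C (AdjoinRoot.root P)) * Q = P₁ :=
      mul_divByMonic_eq_iff_isRoot.2 (AdjoinRoot.isRoot_root P)
    have hQm : Q.Monic := (monic_X_sub_C _).of_mul_monic_left (by rw [hQ]; exact hP.map _)
    have hQd : Q.natDegree = d := by
      have hB : Nontrivial B := by
        by_contra hB
        rw [not_nontrivial_iff_subsingleton] at hB
        rw [natDegree_of_subsingleton] at hd
        omega
      have : Nontrivial B₁ := ⟨⟨(AdjoinRoot.powerBasis' hP).basis ⟨0, by change 0 < P.natDegree; omega⟩,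
        0, Module.Basis.ne_zero _ _⟩⟩
      have := (monic_X_sub_C (AdjoinRoot.root P)).natDegree_mul hQm
      rw [hQ, hP.natDegree_map, natDegree_X_sub_C, hd] at this
      omega
    obtain ⟨B', i1, i2, f, k1, k2, k3, k4, s, hs⟩ := exists_splitting d B₁ Q hQm hQd
      (hasSquarePres_adjoinRoot h1 P) (Module.Finite.trans B B₁) (Module.Free.trans (S := B))
      (Module.FaithfullyFlat.trans A B B₁)
    refine ⟨B', i1, i2, f.comp (IsScalarTower.toAlgHom A B B₁), k1, k2, k3, k4,
      f (AdjoinRoot.root P) ::ₘ s, ?_⟩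
    rw [show P.map (f.comp (IsScalarTower.toAlgHom A B B₁)).toRingHom = P₁.map f.toRingHom from
      (Polynomial.map_map (AdjoinRoot.of P) f.toRingHom P).symm, ← hQ, Polynomial.map_mul, hs]
    simp

end Groth.Agent.Synt18
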