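import Groth.Agent.RelGCI94.SmoothSyn
import Groth.Agent.RelGCI94.SyntLocal
import Groth.Agent.RelGCI94.FibreRing
import Groth.Agent.EGA4H10.NormalFlat
import Groth.Agent.Frg27.BaseChange
import Groth.Agent.S18579
import Groth.Prelude.Def_EGA4b

/-! A flat map of smooth algebras is syntomic. -/

set_option autoImplicit false
universe u

open IsLocalRing TensorProduct

namespace Groth.Agent.Synt18

variable {R A B : Type u} [CommRing R] [CommRing A] [CommRing B]

theorem regular_fibLocRing_of_smooth [Algebra R B] [Algebra.Smooth R B] (q : Ideal B) [q.IsPrime] :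
    IsRegularLocalRing (EGA4.FibLocRing R B q) := by
  obtain ⟨Q, ⟨e⟩⟩ := EGA4H10.exists_fiber_equiv (A := R) q
  have : IsRegularLocalRing (Localization.AtPrime Q.asIdeal) :=
    S18579.regular_of_smooth_atPrime (k := (q.comap (algebraMap R B)).ResidueField) Q.asIdeal
  exact IsRegularLocalRing.of_ringEquiv (R := Localization.AtPrime Q.asIdeal) e

theorem exists_quot_map_equiv {L F : Type u} [CommRing L] [CommRing F] (f : L →+* F)
    (hf : Function.Surjective f) (b : Ideal L) :
    Nonempty ((L ⧸ RingHom.ker f ⊔ b) ≃+* F ⧸ b.map f) := by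
  let g : L →+* F ⧸ b.map f := (Ideal.Quotient.mk _).comp f
  have hg : Function.Surjective g := Ideal.Quotient.mk_surjective.comp hf
  have hker : RingHom.ker g = RingHom.ker f ⊔ b := by
    rw [← RingHom.comap_ker, Ideal.mk_ker, Ideal.comap_map_of_surjective f hf, sup_comm,
      RingHom.ker_eq_comap_bot]
  exact ⟨(Ideal.quotEquivOfEq hker.symm).trans (RingHom.quotientKerEquivOfSurjective hg)⟩

variable [Algebra R A] [Algebra A B] [Algebra R B] [IsScalarTower R A B]

/-- Relative dimension formula in the fibres over a base. -/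
theorem dim_fibLocRing_add [Module.Flat A B] (q : Ideal B) [q.IsPrime] (p : Ideal A) [p.IsPrime]
    (hp : q.comap (algebraMap A B) = p) [IsNoetherianRing (EGA4.FibLocRing R A p)]
    [IsNoetherianRing (EGA4.FibLocRing R B q)] :
    ringKrullDim (EGA4.FibLocRing R B q) =
      ringKrullDim (EGA4.FibLocRing R A p) + ringKrullDim (EGA4.FibLocRing A B q) := by
  have : q.LiesOver p := ⟨hp.symm⟩
  let := Localization.AtPrime.algebraOfLiesOver p q
  let T := Localization.AtPrime p
  let S := Localization.AtPrime q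
  have : Module.Flat T S := by
    have : Module.Flat A S := Module.Flat.trans A B S
    exact (Module.flat_iff_of_isLocalization T p.primeCompl S).mpr this
  let K : Ideal T := (p.comap (algebraMap R A)).map (algebraMap R T)
  have hK : K.map (algebraMap T S) = (q.comap (algebraMap R B)).map (algebraMap R S) := by
    rw [Ideal.map_map, ← IsScalarTower.algebraMap_eq, IsScalarTower.algebraMap_eq R A B,
      ← Ideal.comap_comap, hp]
  have hKm : K ≤ maximalIdeal T := by
    change (p.comap (algebraMap R A)).map (algebraMap R T) ≤ _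
    rw [← Localization.AtPrime.map_eq_maximalIdeal, IsScalarTower.algebraMap_eq R A T, ← Ideal.map_map]
    exact Ideal.map_mono Ideal.map_comap_le
  have hmS : (maximalIdeal T).map (algebraMap T S) = (q.comap (algebraMap A B)).map (algebraMap A S) := by
    rw [← Localization.AtPrime.map_eq_maximalIdeal, Ideal.map_map, ← IsScalarTower.algebraMap_eq, hp]
  let S' := S ⧸ K.map (algebraMap T S)
  let i : Algebra (T ⧸ K) S' :=
    (Ideal.quotientMap (K.map (algebraMap T S)) (algebraMap T S) Ideal.le_comap_map).toAlgebra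
  have hfl : Module.Flat (T ⧸ K) S' := Frg27.flat_quotientMap K
  have hTne : K ≠ ⊤ := fun h => (maximalIdeal.isMaximal T).ne_top (top_le_iff.1 (h ▸ hKm))
  have : Nontrivial (T ⧸ K) := Ideal.Quotient.nontrivial_iff.2 hTne
  have : IsLocalRing (T ⧸ K) := IsLocalRing.of_surjective' (Ideal.Quotient.mk K) Ideal.Quotient.mk_surjective
  have hmle : (maximalIdeal T).map (algebraMap T S) ≤ maximalIdeal S :=
    ((local_hom_TFAE (algebraMap T S)).out 0 2 :).mp inferInstance
  have : Nontrivial S' := Ideal.Quotient.nontrivial_iff.2 fun h =>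
    (maximalIdeal.isMaximal S).ne_top (top_le_iff.1 (h ▸ (Ideal.map_mono hKm).trans hmle))
  have : IsLocalRing S' := IsLocalRing.of_surjective' (Ideal.Quotient.mk _) Ideal.Quotient.mk_surjective
  have : IsNoetherianRing S' :=
    isNoetherianRing_of_ringEquiv (EGA4.FibLocRing R B q) (Ideal.quotEquivOfEq hK.symm)
  have : IsNoetherianRing (T ⧸ K) := ‹IsNoetherianRing (EGA4.FibLocRing R A p)›
  have hm : (maximalIdeal (T ⧸ K)).map (algebraMap (T ⧸ K) S') =
      ((maximalIdeal T).map (algebraMap T S)).map (Ideal.Quotient.mk _) := by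
    rw [← IsLocalRing.map_maximalIdeal_of_surjective (Ideal.Quotient.mk K) Ideal.Quotient.mk_surjective]
    refine (Ideal.map_map _ _).trans (Eq.trans ?_ (Ideal.map_map _ _).symm)
    exact congrArg (fun φ => (maximalIdeal T).map φ) (RingHom.ext fun r => rfl)
  have : IsLocalHom (algebraMap (T ⧸ K) S') := by
    refine ((local_hom_TFAE (algebraMap (T ⧸ K) S')).out 0 2 :).mpr ?_
    rw [hm, ← IsLocalRing.map_maximalIdeal_of_surjective _ (Ideal.Quotient.mk_surjective (I := K.map (algebraMap T S)))]
    exact Ideal.map_mono hmle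
  have h := RelGCI94.ringKrullDim_eq_add_of_flat (R := T ⧸ K) (S := S')
  rw [hm, ringKrullDim_eq_of_ringEquiv (DoubleQuot.quotQuotEquivQuotOfLE (Ideal.map_mono hKm)),
    ringKrullDim_eq_of_ringEquiv (Ideal.quotEquivOfEq hmS),
    ringKrullDim_eq_of_ringEquiv (Ideal.quotEquivOfEq hK)] at h
  exact h

theorem countCI_fibre [Algebra.Smooth R A] [Algebra.Smooth R B] [Module.Flat A B] {n : ℕ}
    (π : MvPolynomial (Fin n) A →ₐ[A] B) (hπ : Function.Surjective π) (q : Ideal B) [q.IsPrime] :
    RelGCI94.CountCI ((RingHom.ker π.toRingHom).map (LCI19.toFib (q.comap π.toRingHom))) := by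
  let P₀ := MvPolynomial (Fin n) A
  let Q : Ideal P₀ := q.comap π.toRingHom
  let p : Ideal A := q.comap (algebraMap A B)
  have hQp : Q.comap (algebraMap A P₀) = p := by
    rw [Ideal.comap_comap]
    exact congrArg (fun φ => q.comap φ) π.comp_algebraMap
  let L := Localization.AtPrime Q
  let I := RingHom.ker π.toRingHom
  let IL := I.map (algebraMap P₀ L)
  let φ : L →+* Localization.AtPrime q := Localization.localRingHom Q q π.toRingHom rfl
  have hφc : ∀ y, φ (algebraMap P₀ L y) = algebraMap B _ (π y) := fun y =>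
    Localization.localRingHom_to_map Q q π.toRingHom rfl y
  have hφsurj : Function.Surjective φ := by
    intro x
    obtain ⟨b, t, rfl⟩ := IsLocalization.exists_mk'_eq q.primeCompl x
    obtain ⟨a, ha⟩ := hπ b
    obtain ⟨s, hs⟩ := hπ t
    have hsQ : s ∈ Q.primeCompl := fun h => t.2 (hs ▸ h)
    refine ⟨IsLocalization.mk' L a ⟨s, hsQ⟩, ?_⟩
    rw [Localization.localRingHom_mk']
    congr 1
    exact Subtype.ext hs
  have hφker : RingHom.ker φ = IL := by
    refine le_antisymm (fun x hx => ?_) (Ideal.map_le_iff_le_comap.2 fun y hy => ?_)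
    · obtain ⟨a, s, rfl⟩ := IsLocalization.exists_mk'_eq Q.primeCompl x
      rw [RingHom.mem_ker, Localization.localRingHom_mk', IsLocalization.mk'_eq_zero_iff] at hx
      obtain ⟨t, ht⟩ := hx
      obtain ⟨t', ht'⟩ := hπ t
      refine (IsLocalization.mk'_mem_map_algebraMap_iff Q.primeCompl L I a s).2
        ⟨t', fun h => t.2 (ht' ▸ h), ?_⟩
      change π (t' * a) = 0
      rw [map_mul, ht']
      exact ht
    · change φ (algebraMap P₀ L y) = 0
      rw [hφc, show π y = 0 from hy, map_zero]
  have hφA : φ.comp (algebraMap A L) = algebraMap A (Localization.AtPrime q) := RingHom.ext fun a => by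
    rw [RingHom.comp_apply, IsScalarTower.algebraMap_apply A P₀ L, hφc, AlgHom.commutes,
      ← IsScalarTower.algebraMap_apply]
  have hφR : φ.comp (algebraMap R L) = algebraMap R (Localization.AtPrime q) := by
    rw [IsScalarTower.algebraMap_eq R A L, ← RingHom.comp_assoc, hφA, ← IsScalarTower.algebraMap_eq]
  let sL : Ideal L := (Q.comap (algebraMap R P₀)).map (algebraMap R L)
  let pL : Ideal L := (Q.comap (algebraMap A P₀)).map (algebraMap A L)
  have hQs : Q.comap (algebraMap R P₀) = q.comap (algebraMap R B) := by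
    rw [IsScalarTower.algebraMap_eq R A P₀, ← Ideal.comap_comap, hQp, IsScalarTower.algebraMap_eq R A B,
      ← Ideal.comap_comap]
  have hsp : sL ≤ pL := by
    change Ideal.map _ (Ideal.comap _ Q) ≤ Ideal.map _ (Ideal.comap _ Q)
    rw [IsScalarTower.algebraMap_eq R A L, ← Ideal.map_map, IsScalarTower.algebraMap_eq R A P₀,
      ← Ideal.comap_comap]
    exact Ideal.map_mono Ideal.map_comap_le
  have : Algebra.Smooth A P₀ := ⟨inferInstance, inferInstance⟩
  have : Algebra.Smooth R P₀ := Algebra.Smooth.comp R A P₀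
  have hLreg : IsRegularLocalRing (EGA4.FibLocRing R P₀ Q) := regular_fibLocRing_of_smooth Q
  have hBreg : IsRegularLocalRing (EGA4.FibLocRing R B q) := regular_fibLocRing_of_smooth q
  have hAreg : IsRegularLocalRing (EGA4.FibLocRing R A p) := regular_fibLocRing_of_smooth p
  have hdL := dim_fibLocRing_add (R := R) (A := A) (B := P₀) Q p hQp
  have hdB := dim_fibLocRing_add (R := R) (A := A) (B := B) q p rfl
  -- the quotient of the regular ring
  let J : Ideal (EGA4.FibLocRing R P₀ Q) := IL.map (Ideal.Quotient.mk sL)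
  obtain ⟨e1⟩ := exists_quot_map_equiv (L := L) (F := L ⧸ sL) (Ideal.Quotient.mk sL)
    Ideal.Quotient.mk_surjective IL
  obtain ⟨e2⟩ := exists_quot_map_equiv φ hφsurj sL
  have hsB : sL.map φ = (q.comap (algebraMap R B)).map (algebraMap R (Localization.AtPrime q)) := by
    rw [Ideal.map_map, hφR, hQs]
  let eJ : (EGA4.FibLocRing R P₀ Q ⧸ J) ≃+* EGA4.FibLocRing R B q :=
    e1.symm.trans ((Ideal.quotEquivOfEq (by rw [Ideal.mk_ker, hφker, sup_comm])).trans
      (e2.trans (Ideal.quotEquivOfEq hsB)))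
  have hJreg : IsRegularLocalRing (EGA4.FibLocRing R P₀ Q ⧸ J) := IsRegularLocalRing.of_ringEquiv eJ.symm
  have hJci : RelGCI94.CountCI J := by
    have hbot : RelGCI94.CountCI (P := EGA4.FibLocRing R P₀ Q ⧸ J) ⊥ := by
      have h := RelGCI94.countCI_of_isRegular (P := EGA4.FibLocRing R P₀ Q ⧸ J) (rs := []) (by simp)
        (RingTheory.Sequence.IsWeaklyRegular.nil _ _)
      rwa [Ideal.ofList_nil] at h
    have := (RelGCI94.countCI_comap_iff _ rfl (Ideal.Quotient.mk J) Ideal.Quotient.mk_surjective ⊥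
      (fun h => bot_ne_top h)).2 hbot
    rwa [← RingHom.ker_eq_comap_bot, Ideal.mk_ker] at this
  -- the fibre
  obtain ⟨χ, hχ, hχc, hχker⟩ := RelGCI94.exists_toFibLoc Q
  have hχker' : RingHom.ker χ = pL := hχker
  have hIF : I.map (LCI19.toFib Q) = IL.map χ := by
    rw [Ideal.map_map]
    exact congrArg (fun f => I.map f) (RingHom.ext fun y => (hχc y).symm)
  let ψ : EGA4.FibLocRing R P₀ Q →+* LCI19.Fib Q :=
    Ideal.Quotient.lift sL χ fun a ha => by
      have : a ∈ RingHom.ker χ := hχker' ▸ hsp ha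
      exact this
  have hJF : J.map ψ = IL.map χ := by
    rw [Ideal.map_map]
    rfl
  obtain ⟨e3⟩ := exists_quot_map_equiv χ hχ IL
  obtain ⟨e4⟩ := exists_quot_map_equiv φ hφsurj pL
  have hpB : pL.map φ = (q.comap (algebraMap A B)).map (algebraMap A (Localization.AtPrime q)) := by
    rw [Ideal.map_map, hφA, hQp]
  have hdq : ringKrullDim (LCI19.Fib Q ⧸ IL.map χ) = ringKrullDim (EGA4.FibLocRing A B q) :=
    ringKrullDim_eq_of_ringEquiv (e3.symm.trans ((Ideal.quotEquivOfEq (by
      rw [hχker', hφker, sup_comm])).trans (e4.trans (Ideal.quotEquivOfEq hpB))))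
  have hdF : ringKrullDim (LCI19.Fib Q) = ringKrullDim (EGA4.FibLocRing A P₀ Q) :=
    ringKrullDim_eq_of_ringEquiv ((RingHom.quotientKerEquivOfSurjective hχ).symm.trans
      (Ideal.quotEquivOfEq hχker'))
  have hne : IL.map χ ≠ ⊤ := by
    intro h
    have : Subsingleton (LCI19.Fib Q ⧸ IL.map χ) := Ideal.Quotient.subsingleton_iff.2 h
    have hb : ringKrullDim (LCI19.Fib Q ⧸ IL.map χ) = ⊥ := ringKrullDim_eq_bot_of_subsingleton
    rw [hdq] at hb
    rw [hb, WithBot.add_bot] at hdB
    exact ringKrullDim_ne_bot hdB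
  have hrank : (IL.map χ).spanFinrank ≤ J.spanFinrank := by
    rw [← hJF]
    exact Ideal.spanFinrank_map_le_of_fg _ J.fg_of_isNoetherianRing
  rw [hIF]
  unfold RelGCI94.CountCI
  refine le_antisymm ?_ (RelGCI94.dim_le_quotient_add _ hne)
  obtain ⟨a, ha⟩ := RelGCI94.exists_dim (A := EGA4.FibLocRing R A p)
  obtain ⟨b, hb⟩ := RelGCI94.exists_dim_quotient (IL.map χ) hne
  obtain ⟨c, hc⟩ := RelGCI94.exists_dim (A := LCI19.Fib Q)
  unfold RelGCI94.CountCI at hJci
  rw [ringKrullDim_eq_of_ringEquiv eJ, hdB, hdL, ← hdq, ← hdF, ha, hb, hc] at hJci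
  rw [hb, hc]
  norm_cast at hJci ⊢
  omega

theorem isSyntomic_of_flat_of_smooth [Algebra.Smooth R A] [Algebra.Smooth R B] [Module.Flat A B]
    [Algebra.FinitePresentation A B] : Synt.IsSyntomic A B := by
  refine ⟨inferInstance, inferInstance, fun p => RelGCI94.isLCIOver_iff.2 ⟨inferInstance, fun QT => ?_⟩⟩
  obtain ⟨n, π, hπ, -⟩ := Algebra.FinitePresentation.out (R := A) (A := B)
  let q : Ideal B := QT.asIdeal.comap
    (Algebra.TensorProduct.includeRight.toRingHom : B →+* p.asIdeal.Fiber B)
  exact (RelGCI94.isCIOver_fibre_iff (RingHom.ker π.toRingHom)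
    (Ideal.quotientKerAlgEquivOfSurjective hπ) p.asIdeal QT.asIdeal (q.comap π.toRingHom)
    (fun y => Iff.rfl)).2 (countCI_fibre (R := R) π hπ q)

end Groth.Agent.Synt18
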